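import Cfsg.Agent.Lib.ThreeTrans.Perp
import Cfsg.Prelude.Def_Transfer

set_option autoImplicit false

/-!
The elementary abelian two core `V` of a group generated by 3-transpositions as a module
(owner: helper8).

With `T f a = f a + a` for an involution `f`: commuting members `d`, `f` with different images modulo `V`
give `d (T f a) = T f a`, non-commuting ones give that `T f a` has trace zero under `d f`.
-/

namespace CfsgLib.ThreeTrans.UniqueClass

open Cfsg

variable (G : Type*) [Group G]

/-- The two core written additively, with the conjugation action of `G`. -/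
structure Act (A : Type*) [AddCommGroup A] where
  inc : A → G
  act : G → A → A
  inc_inj : Function.Injective inc
  inc_mem : ∀ a, inc a ∈ pCore 2 G
  inc_surj : ∀ v ∈ pCore 2 G, ∃ a, inc a = v
  inc_add : ∀ a b, inc (a + b) = inc a * inc b
  inc_act : ∀ x a, inc (act x a) = x * inc a * x⁻¹
  self : ∀ a : A, a + a = 0
  cent : Subgroup.centralizer (pCore 2 G : Set G) ≤ pCore 2 G
  centre : Subgroup.center G = ⊥

variable {G}

/-- The image modulo the two core. -/
abbrev img : G →* G ⧸ pCore 2 G := QuotientGroup.mk' (pCore 2 G)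

theorem img_eq_iff {x y : G} : img x = img y ↔ x⁻¹ * y ∈ pCore 2 G := QuotientGroup.eq

theorem img_eq_one_iff {x : G} : img x = 1 ↔ x ∈ pCore 2 G := QuotientGroup.eq_one_iff x

variable {A : Type*} [AddCommGroup A] (M : Act G A)

/-- The displacement of `x`. -/
def Act.T (x : G) (a : A) : A := M.act x a + a

theorem Act.inc_zero : M.inc 0 = 1 := by
  have h := M.inc_add 0 0
  rw [add_zero] at h
  exact left_eq_mul.1 h

theorem Act.inc_sq (a : A) : M.inc a * M.inc a = 1 := by
  rw [← M.inc_add, M.self, M.inc_zero]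

theorem Act.inc_inv (a : A) : (M.inc a)⁻¹ = M.inc a :=
  inv_eq_of_mul_eq_one_right (M.inc_sq a)

theorem Act.act_mul (x y : G) (a : A) : M.act (x * y) a = M.act x (M.act y a) :=
  M.inc_inj (by simp only [M.inc_act, mul_inv_rev, mul_assoc])

theorem Act.act_one (a : A) : M.act 1 a = a := M.inc_inj (by simp [M.inc_act])

theorem Act.act_add (x : G) (a b : A) : M.act x (a + b) = M.act x a + M.act x b :=
  M.inc_inj (by simp only [M.inc_act, M.inc_add, mul_assoc, inv_mul_cancel_left])

theorem Act.act_zero (x : G) : M.act x 0 = 0 := M.inc_inj (by simp [M.inc_act, M.inc_zero])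

theorem Act.commute_inc (a b : A) : Commute (M.inc a) (M.inc b) := by
  show _ = _
  rw [← M.inc_add, ← M.inc_add, add_comm]

theorem Act.act_img {x y : G} (h : img x = img y) (a : A) : M.act x a = M.act y a := by
  obtain ⟨b, hb⟩ := M.inc_surj _ (img_eq_iff.1 h)
  have hy : y = x * M.inc b := by rw [hb, mul_inv_cancel_left]
  rw [hy, M.act_mul]
  refine congrArg _ (M.inc_inj ?_)
  rw [M.inc_act, (M.commute_inc b a).eq, mul_inv_cancel_right]

/-- An element fixing the whole module lies in the two core. -/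
theorem Act.mem_of_fix {x : G} (h : ∀ a, M.act x a = a) : x ∈ pCore 2 G := by
  refine M.cent (Subgroup.mem_centralizer_iff.2 fun v hv => ?_)
  obtain ⟨a, rfl⟩ := M.inc_surj v hv
  have h1 := M.inc_act x a
  rw [h a] at h1
  calc M.inc a * x = x * M.inc a * x⁻¹ * x := by rw [← h1]
    _ = x * M.inc a := by rw [inv_mul_cancel_right]

include M in
theorem Act.eq_iff {a b : A} : a + b = 0 ↔ a = b := by
  constructor
  · intro h
    calc a = a + (b + b) := by rw [M.self, add_zero]
      _ = a + b + b := (add_assoc _ _ _).symm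
      _ = b := by rw [h, zero_add]
  · rintro rfl; exact M.self a

theorem Act.T_eq_zero {x : G} {a : A} : M.T x a = 0 ↔ M.act x a = a := M.eq_iff

theorem Act.T_add (x : G) (a b : A) : M.T x (a + b) = M.T x a + M.T x b := by
  simp only [Act.T, M.act_add]; abel

theorem Act.act_eq_add (x : G) (a : A) : M.act x a = a + M.T x a := by
  rw [Act.T, ← add_assoc, add_comm a, add_assoc, M.self, add_zero]

theorem Act.act_T (x y : G) (a : A) : M.act x (M.T y a) = M.T (x * y * x⁻¹) (M.act x a) := by
  simp only [Act.T, M.act_add, M.act_mul, ← M.act_mul x⁻¹ x, inv_mul_cancel, M.act_one]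

theorem Act.fix_mul {x y : G} {a : A} (hx : M.act x a = a) (hy : M.act y a = a) : M.act (x * y) a = a := by
  rw [M.act_mul, hy, hx]

theorem Act.T_fix_of_sq {x : G} (hx : x * x = 1) (a : A) : M.act x (M.T x a) = M.T x a := by
  rw [Act.T, M.act_add, ← M.act_mul, hx, M.act_one, add_comm]

theorem Act.conj_involution {f : G} (hf : f * f = 1) (a : A) :
    M.inc a * f * (M.inc a)⁻¹ = f * M.inc (M.T f a) := by
  rw [Act.T, M.inc_add, M.inc_act, M.inc_inv, inv_eq_of_mul_eq_one_right hf]
  simp only [← mul_assoc, hf, one_mul]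

variable {D : Set G}

/-- The members commuting with `x` and not congruent to it. -/
def other (D : Set G) (x : G) : Set G := {m | m ∈ D ∧ Commute x m ∧ img x ≠ img m}

theorem class_mem (hD : IsThreeTranspositionClass D) {d f : G} (hd : d ∈ D) (hf : f ∈ D) :
    d * f * d ∈ D := by
  have := class_conj hD d f hf
  rwa [inv_eq hD.1 hd] at this

theorem class_nonempty (hD : IsThreeTranspositionClass D) : ∃ d, d ∈ D := by
  obtain ⟨-, ⟨d₀, -, hDeq⟩, -⟩ := hD
  exact ⟨d₀, hDeq ▸ mem_conjugatesOf_self⟩

theorem sameV_of_img (hD : IsThreeTranspositionClass D) {d v : G} (hd : d ∈ D) (hv : v ∈ D)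
    (h : img d = img v) : SameV D d v :=
  sameV_of_mul_mem_pCore hD.1 hd hv (by have := img_eq_iff.1 h; rwa [inv_eq hD.1 hd] at this)

theorem commute_congr (hD : IsThreeTranspositionClass D) {d v f : G} (hd : d ∈ D) (hv : v ∈ D) (hf : f ∈ D)
    (h : img d = img v) : Commute v f ↔ Commute d f :=
  (sameV_of_img hD hd hv h).2 f hf

theorem img_ne_of_not_commute (hD : IsThreeTranspositionClass D) {d f : G} (hd : d ∈ D) (hf : f ∈ D)
    (h : ¬ Commute d f) : img d ≠ img f :=
  fun he => h ((sameV_of_img hD hd hf he).commute hd)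

theorem commute_of_img (hD : IsThreeTranspositionClass D) {d f : G} (hd : d ∈ D) (hf : f ∈ D)
    (h : Commute (img d) (img f)) : Commute d f := by
  by_contra hn
  apply img_ne_of_not_commute hD hd hf hn
  have h3 : (img d * img f) ^ 3 = 1 := by rw [← map_mul, ← map_pow, pow_three hD.1 hd hf hn, map_one]
  have h2 : (img d * img f) ^ 2 = 1 := by
    rw [h.mul_pow, ← map_pow, ← map_pow, pow_two, pow_two, mul_self hD.1 hd, mul_self hD.1 hf, map_one, one_mul]
  have h1 : img d * img f = 1 := by
    rw [_root_.pow_succ, h2, one_mul] at h3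
    exact h3
  rw [eq_inv_of_mul_eq_one_left h1, ← map_inv, inv_eq hD.1 hf]

/-- `(a b) a (a b)⁻¹ = b` for non-commuting members. -/
theorem pair_conj (hD : IsThreeTranspositionSet D) {a b : G} (ha : a ∈ D) (hb : b ∈ D) (h : ¬ Commute a b) :
    a * b * a * (a * b)⁻¹ = b := by
  rw [mul_inv_rev, inv_eq hD ha, inv_eq hD hb, braid hD ha hb h]
  simp only [mul_assoc, mul_self_assoc hD hb, mul_self hD ha, mul_one]

variable {D E : Set G} (hD : IsThreeTranspositionClass D)
include M hD

theorem Act.not_mem {d : G} (hd : d ∈ D) : d ∉ pCore 2 G := by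
  intro hdV
  have hall : ∀ x ∈ D, x ∈ pCore 2 G := by
    intro x hx
    obtain ⟨g, rfl⟩ := class_trans hD hd hx
    exact (inferInstance : (pCore 2 G).Normal).conj_mem d hdV g
  have hc : d ∈ Subgroup.center G := central_of_commute_all hD.2.2 fun x hx => by
    obtain ⟨a, ha⟩ := M.inc_surj _ hdV
    obtain ⟨b, hb⟩ := M.inc_surj _ (hall x hx)
    rw [← ha, ← hb]; exact M.commute_inc a b
  rw [M.centre, Subgroup.mem_bot] at hc
  exact ne_one hD.1 hd hc

theorem Act.two : ∃ a ∈ D, ∃ b ∈ D, a ≠ b := by
  obtain ⟨d, hd⟩ := class_nonempty hD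
  by_contra h
  simp only [not_exists, not_and, not_not] at h
  have hc : d ∈ Subgroup.center G := central_of_commute_all hD.2.2 fun x hx => h d hd x hx ▸ Commute.refl d
  rw [M.centre, Subgroup.mem_bot] at hc
  exact ne_one hD.1 hd hc

theorem Act.exists_T_ne {d : G} (hd : d ∈ D) : ∃ a, M.T d a ≠ 0 := by
  by_contra h
  simp only [not_exists, not_not] at h
  exact M.not_mem hD hd (M.mem_of_fix fun a => M.T_eq_zero.1 (h a))

theorem Act.conj_eq_mul {f : G} (hf : f ∈ D) (a : A) : f * M.inc (M.T f a) ∈ D := by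
  rw [← M.conj_involution (mul_self hD.1 hf)]
  exact class_conj hD _ f hf

omit hD in
theorem Act.img_mul_inc {f : G} (a : A) : img (f * M.inc a) = img f := by
  rw [map_mul, img_eq_one_iff.2 (M.inc_mem a), mul_one]

/-- Commuting members with different images. -/
theorem Act.fix_of_commute {d f : G} (hd : d ∈ D) (hf : f ∈ D) (hc : Commute d f)
    (a : A) : M.act d (M.T f a) = M.T f a := by
  have hf' := M.conj_eq_mul hD hf a
  have hc' : Commute d (f * M.inc (M.T f a)) := by
    apply commute_of_img hD hd hf'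
    rw [M.img_mul_inc]
    exact hc.map img
  have ht : Commute d (M.inc (M.T f a)) := by
    have h := hc.mul_right hc'
    rwa [mul_self_assoc hD.1 hf] at h
  apply M.inc_inj
  rw [M.inc_act, ht.eq, mul_inv_cancel_right]

/-- Non-commuting members. -/
theorem Act.trace_zero {d f : G} (hd : d ∈ D) (hf : f ∈ D) (hn : ¬ Commute d f) (a : A) :
    M.T f a + M.act (d * f) (M.T f a) + M.act (d * f) (M.act (d * f) (M.T f a)) = 0 := by
  have hf' := M.conj_eq_mul hD hf a
  set t := M.T f a with ht
  have hn' : ¬ Commute d (f * M.inc t) := fun h => hn (by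
    apply commute_of_img hD hd hf
    rw [← M.img_mul_inc (f := f) t]
    exact h.map img)
  set r := d * f with hr
  have h3 : r * r * r = 1 := by rw [← pow_three hD.1 hd hf hn, _root_.pow_succ, pow_two]
  have hrr : r * r = r⁻¹ := eq_inv_of_mul_eq_one_left h3
  have h3' := pow_three hD.1 hd hf' hn'
  rw [← mul_assoc, ← hr, _root_.pow_succ, pow_two] at h3'
  apply M.inc_inj
  rw [M.inc_zero, ← h3', M.inc_add, M.inc_add]
  have e2 : M.act r (M.act r t) = M.act r⁻¹ t := by rw [← M.act_mul, hrr]
  rw [e2, (M.commute_inc t _).eq, mul_assoc, (M.commute_inc t _).eq, M.inc_act, M.inc_act, inv_inv, ← mul_assoc]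
  calc r * M.inc t * r⁻¹ * (r⁻¹ * M.inc t * r) * M.inc t
      = r * M.inc t * (r * r * r)⁻¹ * r * M.inc t * r * M.inc t := by group
    _ = r * M.inc t * (r * M.inc t) * (r * M.inc t) := by
        rw [h3, inv_one, mul_one]; simp only [mul_assoc]

/-- No non-zero displacement of `f` is fixed by a member not commuting with `f`. -/
theorem Act.eq_zero_of_fix {d f : G} (hd : d ∈ D) (hf : f ∈ D) (hn : ¬ Commute d f) {a : A}
    (h : M.act d (M.T f a) = M.T f a) : M.T f a = 0 := by
  have hr : M.act (d * f) (M.T f a) = M.T f a := M.fix_mul h (M.T_fix_of_sq (mul_self hD.1 hf) a)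
  have := M.trace_zero hD hd hf hn a
  rwa [hr, hr, M.self, zero_add] at this

/-- The fixed points of `d f` are fixed by `d` and `f`. -/
theorem Act.fix_of_fix_mul {d f : G} (hd : d ∈ D) (hf : f ∈ D) (hn : ¬ Commute d f) {a : A}
    (h : M.act (d * f) a = a) : M.act d a = a ∧ M.act f a = a := by
  have hdf : M.act f a = M.act d a := by
    conv_rhs => rw [← h]
    rw [← M.act_mul, mul_self_assoc hD.1 hd]
  have h0 : M.T f a = 0 := by
    apply M.eq_zero_of_fix hD hd hf hn
    rw [Act.T, M.act_add, ← M.act_mul, h, hdf, add_comm]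
  have hfa := M.T_eq_zero.1 h0
  exact ⟨hdf ▸ hfa, hfa⟩

/-- The displacement spaces of commuting members with different images meet trivially. -/
theorem Act.inter_zero {d f : G} (hd : d ∈ D) (hf : f ∈ D) (hne : img d ≠ img f)
    {a b : A} (h : M.T d a = M.T f b) : M.T d a = 0 := by
  have hns : ¬ ∀ e ∈ D, Commute f e ↔ Commute d e := fun hall => by
    have h1 := ((sameV_iff_mem_pCore hD.1 (class_conj hD) hd).1 ⟨hf, hall⟩).2
    exact hne (img_eq_iff.2 h1)
  simp only [not_forall] at hns
  obtain ⟨g, hg, hiff⟩ := hns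
  by_cases hdg : Commute d g
  · have hfg : ¬ Commute g f := fun h' => hiff ⟨fun _ => hdg, fun _ => h'.symm⟩
    have h1 : M.act g (M.T f b) = M.T f b := by
      rw [← h]; exact M.fix_of_commute hD hg hd hdg.symm a
    rw [h]; exact M.eq_zero_of_fix hD hg hf hfg h1
  · have hfg : Commute g f := by
      by_contra h'
      exact hiff ⟨fun h'' => absurd h''.symm h', fun h'' => absurd h'' hdg⟩
    have h1 : M.act g (M.T d a) = M.T d a := by
      rw [h]; exact M.fix_of_commute hD hg hf hfg b
    exact M.eq_zero_of_fix hD hg hd (fun h' => hdg h'.symm) h1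

end CfsgLib.ThreeTrans.UniqueClass
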