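import Cfsg.Agent.Lib.ThreeTrans.UniqueClass.Base

set_option autoImplicit false

/-!
A member of one class congruent to a member of another class modulo the elementary abelian two core
lies in the latter (owner: helper8).
-/

namespace CfsgLib.ThreeTrans.UniqueClass

open Cfsg

variable {G : Type*} [Group G] [Finite G] {A : Type*} [AddCommGroup A] (M : Act G A) {D E : Set G}
  (hD : IsThreeTranspositionClass D) (hE : IsThreeTranspositionClass E)

/-- `a` is fixed by `h` and `h a` is a member of `E`. -/
def Fix (E : Set G) (h : G) (a : A) : Prop := M.act h a = a ∧ h * M.inc a ∈ E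

omit [Finite G] in
include hE in
theorem Fix.conj {h : G} {a : A} (hh : Fix M E h a) (x : G) : Fix M E (x * h * x⁻¹) (M.act x a) := by
  refine ⟨?_, ?_⟩
  · rw [← M.act_mul, show x * h * x⁻¹ * x = x * h by group, M.act_mul, hh.1]
  · have := class_conj hE x _ hh.2
    rwa [show x * (h * M.inc a) * x⁻¹ = x * h * x⁻¹ * (x * M.inc a * x⁻¹) by group, ← M.inc_act] at this

include hE in
theorem rep_unique {h : G} {a b : A} (ha : Fix M E h a) (hb : Fix M E h b) : ∃ c, b = a + M.T h c := by
  have hi : img (h * M.inc a) = img (h * M.inc b) := by rw [M.img_mul_inc, M.img_mul_inc]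
  have hs : SameV E (h * M.inc a) (h * M.inc b) := sameV_of_img hE ha.2 hb.2 hi
  obtain ⟨g, hg, hgeq⟩ := (sameV_conj_pCore hE (M.two hE) ha.2).1 hs
  obtain ⟨c, rfl⟩ := M.inc_surj g hg
  rw [M.conj_involution (mul_self hE.1 ha.2), mul_assoc, ← M.inc_add] at hgeq
  have h2 := M.inc_inj (mul_left_cancel hgeq)
  refine ⟨c, h2.trans ?_⟩
  rw [Act.T, Act.T, M.act_img (M.img_mul_inc a)]

include hD hE in
/-- Two representatives at `d` fixed by a member not commuting with `d` agree. -/
theorem eq_of_fix {d f : G} (hd : d ∈ D) (hf : f ∈ D) (hn : ¬ Commute d f) {a b : A} (ha : Fix M E d a)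
    (hb : Fix M E d b) (hfa : M.act f a = a) (hfb : M.act f b = b) : a = b := by
  obtain ⟨c, hc⟩ := rep_unique M hE ha hb
  have h1 : M.act f (M.T d c) = M.T d c := by
    rw [hc, M.act_add, hfa] at hfb
    exact add_left_cancel hfb
  rw [hc, M.eq_zero_of_fix hD hf hd (fun h => hn h.symm) h1, add_zero]

omit [Finite G] in
include hD hE in
/-- The representative of a non-commuting pair. -/
theorem exists_pair {d f : G} (hd : d ∈ D) (hf : f ∈ D) (hn : ¬ Commute d f) {a : A} (ha : Fix M E d a) :
    ∃ c, Fix M E d c ∧ Fix M E f c := by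
  have hdd := mul_self hD.1 hd
  have hff := mul_self hD.1 hf
  have hd2 : ∀ x, M.act d (M.act d x) = x := fun x => by rw [← M.act_mul, hdd, M.act_one]
  have hf2 : ∀ x, M.act f (M.act f x) = x := fun x => by rw [← M.act_mul, hff, M.act_one]
  set c := a + (M.act d (M.act f a) + M.act f a) with hc
  have hdc : M.act d c = c := by
    rw [hc, M.act_add, M.act_add, hd2, ha.1]; abel
  have hfdf : M.act f (M.act d (M.act f a)) = M.act d (M.act f a) := by
    rw [← M.act_mul, ← M.act_mul, ← braid hD.1 hd hf hn, M.act_mul, M.act_mul, ha.1]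
  have hfc : M.act f c = c := by
    rw [hc, M.act_add, M.act_add, hfdf, hf2]; abel
  have hdE : d * M.inc c ∈ E := by
    have := class_conj hE (M.inc (M.act f a)) _ ha.2
    rw [M.conj_involution (mul_self hE.1 ha.2), mul_assoc, ← M.inc_add, Act.T,
      M.act_img (M.img_mul_inc a)] at this
    exact this
  have hcd : Fix M E d c := ⟨hdc, hdE⟩
  refine ⟨c, hcd, ?_⟩
  have h := hcd.conj M hE (d * f)
  rwa [pair_conj hD.1 hd hf hn, M.fix_mul hdc hfc] at h

include hD hE in
/-- A representative fixed by one non-commuting member is fixed by all of them. -/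
theorem fix_all {d f g : G} (hd : d ∈ D) (hf : f ∈ D) (hn : ¬ Commute d f) (hg : g ∈ D) (hng : ¬ Commute d g)
    {a : A} (had : Fix M E d a) (haf : Fix M E f a) : Fix M E g a := by
  obtain ⟨b, hbd, hbg⟩ := exists_pair M hD hE hd hg hng had
  suffices hga : M.act g a = a by
    rwa [eq_of_fix M hD hE hd hg hng had hbd hga hbg.1]
  have comm_case : ∀ k ∈ D, ¬ Commute d k → Fix M E k a → Commute k g → M.act g a = a := by
    intro k hk hnk hak hc
    by_cases hi : img k = img g
    · rw [← M.act_img hi]; exact hak.1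
    · have h' := commute_of_img hE hak.2 hbg.2 (by rw [M.img_mul_inc, M.img_mul_inc]; exact hc.map img)
      have e : ∀ (x y : G) (p q : A), y * y = 1 →
          x * M.inc p * (y * M.inc q) = x * y * M.inc (M.act y p + q) := by
        intro x y p q hy
        rw [M.inc_add, M.inc_act, inv_eq_of_mul_eq_one_right hy]
        calc x * M.inc p * (y * M.inc q) = x * (y * y) * M.inc p * (y * M.inc q) := by rw [hy, mul_one]
          _ = _ := by simp only [mul_assoc]
      have h2 := h'.eq
      rw [e k g a b (mul_self hD.1 hg), e g k b a (mul_self hD.1 hk), hc.eq] at h2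
      have h3 : M.T g a = M.T k b := by
        have h4 := M.inc_inj (mul_left_cancel h2)
        rw [M.act_eq_add g a, M.act_eq_add k b] at h4
        have h5 : a + b + M.T g a = a + b + M.T k b := by
          calc a + b + M.T g a = a + M.T g a + b := by abel
            _ = b + M.T k b + a := h4
            _ = a + b + M.T k b := by abel
        exact add_left_cancel h5
      exact M.T_eq_zero.1 (M.inter_zero hD hg hk (Ne.symm hi) h3)
  by_cases hfg : Commute f g
  · exact comm_case f hf hn haf hfg
  have hdinv := inv_eq hD.1 hd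
  have hf' : d * f * d ∈ D := class_mem hD hd hf
  have hn' : ¬ Commute d (d * f * d) := by
    intro h
    have h' := (commute_conj_iff (g := d)).2 h
    rw [hdinv, mul_self hD.1 hd, one_mul] at h'
    simp only [mul_assoc, mul_self_assoc hD.1 hd, mul_self hD.1 hd, mul_one] at h'
    exact hn h'
  have haf' : Fix M E (d * f * d) a := by
    have h := haf.conj M hE d
    rwa [had.1, hdinv] at h
  by_cases hfg' : Commute (d * f * d) g
  · exact comm_case _ hf' hn' haf' hfg'
  obtain ⟨u, hu⟩ : ∃ u, u = g * d * f * g := ⟨_, rfl⟩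
  have hgf : g * f * g = f * g * f := braid hD.1 hg hf fun h => hfg h.symm
  have hgd : g * d * g = d * g * d := braid hD.1 hg hd fun h => hng h.symm
  have hgg := mul_self hD.1 hg
  have hff := mul_self hD.1 hf
  have hdd := mul_self hD.1 hd
  have huinv : u⁻¹ = g * f * d * g := by
    rw [hu]; simp only [mul_inv_rev, inv_eq hD.1 hg, hdinv, inv_eq hD.1 hf, mul_assoc]
  have hud : u * f * u⁻¹ = d := by
    calc u * f * u⁻¹ = g * d * (f * (g * f * g) * f) * d * g := by rw [huinv, hu]; simp only [mul_assoc]
      _ = g * d * g * d * g := by rw [hgf]; simp only [mul_assoc, mul_self_assoc hD.1 hf]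
      _ = d := by
        rw [hgd]; simp only [mul_assoc, mul_self_assoc hD.1 hd, mul_self hD.1 hd, hgg, mul_one]
  have huf : u * d * u⁻¹ = d * f * d := by
    have hb := braid hD.1 hf' hg hfg'
    calc u * d * u⁻¹ = g * d * f * (g * d * g) * f * d * g := by rw [huinv, hu]; simp only [mul_assoc]
      _ = g * (d * f * d * g * (d * f * d)) * g := by rw [hgd]; simp only [mul_assoc]
      _ = d * f * d := by
        rw [hb]; simp only [mul_assoc, mul_self_assoc hD.1 hg, hgg, mul_one]
  have hua : M.act u a = a := by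
    have h1 := haf.conj M hE u
    rw [hud] at h1
    have h2 := had.conj M hE u
    rw [huf] at h2
    exact (eq_of_fix M hD hE hd hf' hn' had h1 haf'.1 h2.1).symm
  have hr : M.act (d * f) (M.act g a) = M.act g a := by
    rw [← M.act_mul, show d * f * g = g * u by rw [hu]; simp only [mul_assoc, mul_self_assoc hD.1 hg],
      M.act_mul, hua]
  obtain ⟨hdg, -⟩ := M.fix_of_fix_mul hD hd hf hn hr
  have h1 := (had.conj M hE g).conj M hE d
  rw [hdg, inv_eq hD.1 hg, hdinv, show d * (g * d * g) * d = g by
    rw [hgd]; simp only [mul_assoc, mul_self_assoc hD.1 hd, mul_self hD.1 hd, mul_one]] at h1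
  have h2 := h1.1
  rw [← M.act_mul, hgg, M.act_one] at h2
  exact h2.symm

include M hD hE in
theorem mem_of_same_img {d e : G} (hd : d ∈ D) (he : e ∈ E) (h : img d = img e) : e ∈ D := by
  obtain ⟨a, ha⟩ := M.inc_surj _ (img_eq_iff.1 h)
  have hea : e = d * M.inc a := by rw [ha, mul_inv_cancel_left]
  have had : M.act d a = a := by
    apply M.inc_inj
    rw [M.inc_act]
    have h' := mul_self hE.1 he
    rw [hea] at h'
    calc d * M.inc a * d⁻¹ = (d * M.inc a * (d * M.inc a)) * (M.inc a)⁻¹ := by
          rw [inv_eq hD.1 hd]; group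
      _ = M.inc a := by rw [h', one_mul, M.inc_inv]
  have hFa : Fix M E d a := ⟨had, hea ▸ he⟩
  obtain ⟨f, hf, hn⟩ := exists_not_commute hD (M.two hD) hd
  obtain ⟨c, hcd, hcf⟩ := exists_pair M hD hE hd hf hn hFa
  let S : G → Prop := fun k => k ∈ D ∧ Fix M E k c ∧ ∃ k' ∈ D, ¬ Commute k k' ∧ Fix M E k' c
  have hadj : ∀ k, S k → ∀ l ∈ D, ¬ Commute k l → S l := by
    rintro k ⟨hk, hkc, k', hk', hnk', hk'c⟩ l hl hnl
    exact ⟨hl, fix_all M hD hE hk hk' hnk' hl hnl hkc hk'c, k, hk, fun h => hnl h.symm, hkc⟩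
  have hstep : ∀ t ∈ D, ∀ k, S k → S (t * k * t) := by
    intro t ht k hk
    by_cases hkt : Commute k t
    · rwa [← hkt.eq, mul_assoc, mul_self hD.1 ht, mul_one]
    · refine hadj t (hadj k hk t ht hkt) _ (class_mem hD ht hk.1) fun hc => hkt ?_
      have h' := (commute_conj_iff (g := t)).2 hc
      rw [inv_eq hD.1 ht, mul_self hD.1 ht, one_mul] at h'
      simp only [mul_assoc, mul_self_assoc hD.1 ht, mul_self hD.1 ht, mul_one] at h'
      exact h'.symm
  have hall : ∀ x : G, ∀ k, S k → S (x * k * x⁻¹) := by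
    intro x
    have hx : x ∈ Subgroup.closure D := hD.2.2 ▸ Subgroup.mem_top x
    induction hx using Subgroup.closure_induction'' with
    | mem t ht => intro k hk; rw [inv_eq hD.1 ht]; exact hstep t ht k hk
    | inv_mem t ht => intro k hk; rw [inv_inv, inv_eq hD.1 ht]; exact hstep t ht k hk
    | one => intro k hk; simpa using hk
    | mul p q _ _ hp hq =>
      intro k hk
      rw [show p * q * k * (p * q)⁻¹ = p * (q * k * q⁻¹) * p⁻¹ by group]
      exact hp _ (hq k hk)
  have hz : M.inc c ∈ Subgroup.center G := by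
    refine central_of_commute_all hD.2.2 fun x hx => ?_
    obtain ⟨g, rfl⟩ := class_trans hD hd hx
    have h1 := (hall g d ⟨hd, hcd, f, hf, hn, hcf⟩).2.1.1
    have h2 := M.inc_act (g * d * g⁻¹) c
    rw [h1] at h2
    show _ = _
    conv_lhs => rw [h2]
    rw [inv_mul_cancel_right]
  rw [M.centre, Subgroup.mem_bot] at hz
  have hc0 : c = 0 := M.inc_inj (hz.trans M.inc_zero.symm)
  obtain ⟨b, hb⟩ := rep_unique M hE (hc0 ▸ hcd : Fix M E d (0 : A)) hFa
  rw [hea, hb, zero_add]
  exact M.conj_eq_mul hD hd b

end CfsgLib.ThreeTrans.UniqueClass
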