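import Cfsg.Agent.Lib.ThreeTrans.UniqueClass.Middle
import Cfsg.Agent.Lib.ThreeTrans.WidthOneThm

set_option autoImplicit false

/-!
Two classes of 3-transpositions generating a group with self-centralizing elementary abelian two core
have the same images modulo the two core (owner: helper8).
-/

namespace CfsgLib.ThreeTrans.UniqueClass

open Cfsg

universe u

variable {G : Type u} [Group G] [Finite G] {A : Type*} [AddCommGroup A] (M : Act G A) {D E : Set G}
  (hD : IsThreeTranspositionClass D) (hE : IsThreeTranspositionClass E) {e : G} (he : e ∈ E)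
  (hne : ∀ f ∈ D, img f ≠ img e)

omit [Finite G] in
include hD in
theorem mem_other_conj {x m : G} (hx : m ∈ other D x) (g : G) : g * m * g⁻¹ ∈ other D (g * x * g⁻¹) := by
  refine ⟨class_conj hD g m hx.1, commute_conj_iff.2 hx.2.1, fun h => hx.2.2 ?_⟩
  simp only [map_mul] at h
  exact mul_left_cancel (mul_right_cancel h)

omit [Finite G] in
include hD in
theorem other_conj (g x : G) : other D (g * x * g⁻¹) = (fun m => g * m * g⁻¹) '' other D x := by
  ext y
  refine ⟨fun h => ⟨g⁻¹ * y * g⁻¹⁻¹, ?_, by group⟩, ?_⟩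
  · have := mem_other_conj hD h g⁻¹
    rwa [show g⁻¹ * (g * x * g⁻¹) * g⁻¹⁻¹ = x by group] at this
  · rintro ⟨m, hm, rfl⟩
    exact mem_other_conj hD hm g

omit [Finite G] in
include hD in
theorem other_congr {x y : G} (hx : x ∈ D) (hy : y ∈ D) (h : img x = img y) : other D x = other D y := by
  ext m
  constructor
  · rintro ⟨hm, hc, hn⟩; exact ⟨hm, (commute_congr hD hx hy hm h).2 hc, h ▸ hn⟩
  · rintro ⟨hm, hc, hn⟩; exact ⟨hm, (commute_congr hD hx hy hm h).1 hc, h.symm ▸ hn⟩

include M hD hE he hne in
/-- A middle and its line have the same other commuting members. -/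
theorem other_eq {g n : G} (h : Mid D e g n) : other D g = other D n := by
  obtain ⟨hnD, hen, hng, -⟩ := Mid.facts hD hE he h
  have hg := h.mem
  have hsub : other D n ⊆ other D g := by
    rintro m ⟨hm, hnm, hne'⟩
    refine ⟨hm, commute_line M hD hE he hne h hm hnm hne', fun hgm => hng ?_⟩
    exact ((commute_congr hD hm hg hnD hgm.symm).2 hnm.symm).symm
  have hcard : (other D g).ncard = (other D n).ncard := by
    rw [← pair_conj hD.1 hnD hg hng, other_conj hD,
      Set.ncard_image_of_injective _ fun a b hab => mul_left_cancel (mul_right_cancel hab)]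
  exact (Set.eq_of_subset_of_ncard_le hsub hcard.le (Set.toFinite _)).symm

include M hD hE he hne in
/-- Some member is moved by `e`. -/
theorem exists_mid : ∃ g n, Mid D e g n := by
  by_contra h
  have hc : ∀ d ∈ D, Commute (img e) (img d) := by
    intro d hd
    have hcd : Commute d (e * d * e) := by
      by_contra hn
      exact h ⟨d, _, hd, hn, rfl⟩
    have hi := img_eq_of_commute M hD hE he hd hcd
    have h' : img e * img d * (img e)⁻¹ = img d := by rw [← map_inv, inv_eq hE.1 he, ← map_mul, ← map_mul, hi]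
    exact mul_inv_eq_iff_eq_mul.1 h'
  have hcG : ∀ x : G, Commute (img e) (img x) := by
    intro x
    have hx : x ∈ Subgroup.closure D := hD.2.2 ▸ Subgroup.mem_top x
    induction hx using Subgroup.closure_induction with
    | mem t ht => exact hc t ht
    | one => rw [map_one]; exact Commute.one_right _
    | mul p q _ _ hp hq => rw [map_mul]; exact hp.mul_right hq
    | inv p _ hp => rw [map_inv]; exact hp.inv_right
  set K : Subgroup (G ⧸ pCore 2 G) := Subgroup.zpowers (img e) with hK
  haveI hKn : K.Normal := by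
    refine ⟨fun k hk q => ?_⟩
    obtain ⟨i, rfl⟩ := Subgroup.mem_zpowers_iff.1 hk
    obtain ⟨x, rfl⟩ := QuotientGroup.mk'_surjective (pCore 2 G) q
    rw [((hcG x).zpow_left i).symm.eq, mul_inv_cancel_right]
    exact Subgroup.mem_zpowers_iff.2 ⟨i, rfl⟩
  haveI : Fact (Nat.Prime 2) := ⟨Nat.prime_two⟩
  have hKp : IsPGroup 2 K := by
    rintro ⟨k, hk⟩
    obtain ⟨i, rfl⟩ := Subgroup.mem_zpowers_iff.1 hk
    refine ⟨1, Subtype.ext ?_⟩
    show ((img e) ^ i) ^ (2 ^ 1) = 1
    rw [← zpow_natCast ((img e) ^ i), ← zpow_mul, mul_comm, zpow_mul, zpow_natCast, pow_one, pow_two,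
      ← map_mul, e_self hE he, map_one, one_zpow]
  have hker : IsPGroup 2 (img (G := G)).ker := by
    rw [QuotientGroup.ker_mk']; exact CfsgLib.Core.isPGroup_pCore 2 G
  have hle := CfsgLib.Core.le_pCore (N := K.comap img) (hKp.comap_of_ker_isPGroup img hker)
  exact M.not_mem hE he (hle (Subgroup.mem_comap.2 (Subgroup.mem_zpowers _)))

include M hD hE he hne in
/-- No member has another commuting member with a different image. -/
theorem other_empty {d : G} (hd : d ∈ D) : other D d = ∅ := by
  obtain ⟨g, n, h⟩ := exists_mid M hD hE he hne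
  obtain ⟨hnD, hen, hng, -⟩ := Mid.facts hD hE he h
  suffices hn0 : other D n = ∅ by
    obtain ⟨x, rfl⟩ := class_trans hD hnD hd
    rw [other_conj hD, hn0, Set.image_empty]
  by_contra hU
  obtain ⟨u₀, hu₀⟩ := Set.nonempty_iff_ne_empty.2 hU
  -- a member not commuting with `n` next to a member of `other n`
  obtain ⟨u, hu, q, hq, huq, hnq⟩ : ∃ u ∈ other D n, ∃ q ∈ D, ¬ Commute u q ∧ ¬ Commute n q := by
    by_contra hno
    simp only [not_exists, not_and, not_not] at hno
    have hstep : ∀ t ∈ D, ∀ s ∈ other D n, t * s * t ∈ other D n := by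
      intro t ht s hs
      by_cases hst : Commute s t
      · rwa [← hst.eq, mul_assoc, mul_self hD.1 ht, mul_one]
      · have hnt := hno s hs t ht hst
        refine ⟨class_mem hD ht hs.1, (hnt.mul_right hs.2.1).mul_right hnt, fun heq => hs.2.2 ?_⟩
        calc img n = img (t * n * t) := by rw [← hnt.eq, mul_assoc, mul_self hD.1 ht, mul_one]
          _ = img t * img n * img t := by rw [map_mul, map_mul]
          _ = img (t * (t * s * t) * t) := by rw [heq, ← map_mul, ← map_mul]
          _ = img s := by rw [mul_assoc t s, mul_self_assoc hD.1 ht, mul_assoc, mul_self hD.1 ht, mul_one]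
    have hall : ∀ x : G, ∀ s ∈ other D n, x * s * x⁻¹ ∈ other D n := by
      intro x
      have hx : x ∈ Subgroup.closure D := hD.2.2 ▸ Subgroup.mem_top x
      induction hx using Subgroup.closure_induction'' with
      | mem t ht => intro s hs; rw [inv_eq hD.1 ht]; exact hstep t ht s hs
      | inv_mem t ht => intro s hs; rw [inv_inv, inv_eq hD.1 ht]; exact hstep t ht s hs
      | one => intro s hs; simpa using hs
      | mul a b _ _ ha hb =>
        intro s hs
        rw [show a * b * s * (a * b)⁻¹ = a * (b * s * b⁻¹) * a⁻¹ by group]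
        exact ha _ (hb s hs)
    obtain ⟨x, hx⟩ := class_trans hD hu₀.1 hnD
    exact (hx ▸ hall x u₀ hu₀).2.2 rfl
  have huC : img (e * u * e) = img u :=
    img_eq_of_commute M hD hE he hu.1 (commute_fixed M hD hE he hne h hu.1 hu.2.1)
  have comm_of : ∀ {y : G}, y ∈ D → img (e * y * e) = img y → Commute (img e) (img y) := by
    intro y _ hi
    have h' : img e * img y * (img e)⁻¹ = img y := by rw [← map_inv, inv_eq hE.1 he, ← map_mul, ← map_mul, hi]
    exact mul_inv_eq_iff_eq_mul.1 h'
  obtain ⟨p, hp, hpe, hpn, hpu⟩ :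
      ∃ p ∈ D, Commute (img e) (img p) ∧ ¬ Commute p n ∧ ¬ Commute u p := by
    by_cases hqc : Commute q (e * q * e)
    · exact ⟨q, hq, comm_of hq (img_eq_of_commute M hD hE he hq hqc), fun hc => hnq hc.symm, huq⟩
    · have h2 : Mid D e q (q * (e * q * e) * q) := ⟨hq, hqc, rfl⟩
      obtain ⟨hpD, hep, -⟩ := Mid.facts hD hE he h2
      set p := q * (e * q * e) * q
      have heq := other_eq M hD hE he hne h2
      have hpn : ¬ Commute p n := by
        intro hc
        by_cases hi : img p = img n
        · have : u ∈ other D q := by rw [heq, other_congr hD hpD hnD hi]; exact hu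
          exact huq this.2.1.symm
        · have : n ∈ other D q := by rw [heq]; exact ⟨hnD, hc, hi⟩
          exact hnq this.2.1.symm
      refine ⟨p, hpD, hep.map img, hpn, fun hc => ?_⟩
      by_cases hi : img p = img u
      · exact hpn ((commute_congr hD hu.1 hpD hnD hi.symm).2 hu.2.1.symm)
      · have : u ∈ other D q := by rw [heq]; exact ⟨hu.1, hc.symm, hi⟩
        exact huq this.2.1.symm
  have hug : u ∈ other D g := (other_eq M hD hE he hne h).symm ▸ hu
  have hfix : ∀ a, M.act e (M.T u a) = M.T u a :=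
    fix_of_commute_line M hD hE he h hu.1 hu.2.1.symm hug.2.1.symm
  have hx : (p * n) * (u * p) * u * ((p * n) * (u * p))⁻¹ = n := by
    calc (p * n) * (u * p) * u * ((p * n) * (u * p))⁻¹
        = (p * n) * (u * p * u * (u * p)⁻¹) * (p * n)⁻¹ := by group
      _ = n := by rw [pair_conj hD.1 hu.1 hp hpu, pair_conj hD.1 hp hnD hpn]
  have hcx : Commute (img ((p * n) * (u * p))) (img e) := by
    simp only [map_mul]
    exact (hpe.symm.mul_left (hen.symm.map img)).mul_left ((comm_of hu.1 huC).symm.mul_left hpe.symm)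
  obtain ⟨a, ha⟩ := exists_moved M hD hE he hne h
  exact ha (fix_transport M hx hcx hfix a)

end CfsgLib.ThreeTrans.UniqueClass

namespace CfsgLib.ThreeTrans.UniqueClass

open Cfsg

universe v

variable {G : Type v} [Group G] [Finite G] {A : Type*} [AddCommGroup A] (M : Act G A) {D E : Set G}

include M in
/-- Both classes have the same images modulo the two core. -/
theorem exists_same_img (hD : IsThreeTranspositionClass D) (hE : IsThreeTranspositionClass E) {e : G}
    (he : e ∈ E) : ∃ d ∈ D, img d = img e := by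
  by_contra h
  simp only [not_exists, not_and] at h
  have hemp := fun {d : G} (hd : d ∈ D) => other_empty M hD hE he h hd
  obtain ⟨d, hd⟩ := class_nonempty hD
  haveI : Fact (Nat.Prime 2) := ⟨Nat.prime_two⟩
  set Db : Set (G ⧸ pCore 2 G) := img '' D with hDb
  have hne1 : ∀ {x : G}, x ∉ pCore 2 G → x * x = 1 → orderOf (img x) = 2 := by
    intro x hx hxx
    refine orderOf_eq_prime ?_ fun h1 => hx (img_eq_one_iff.1 h1)
    rw [pow_two, ← map_mul, hxx, map_one]
  have hset : IsThreeTranspositionSet Db := by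
    constructor
    · rintro _ ⟨x, hx, rfl⟩; exact hne1 (M.not_mem hD hx) (mul_self hD.1 hx)
    · rintro _ ⟨x, hx, rfl⟩ _ ⟨y, hy, rfl⟩
      simp only [← map_mul, ← map_pow]
      exact (hD.1.2 x hx y hy).imp (fun h' => by rw [h', map_one]) (fun h' => by rw [h', map_one])
  have hgrp : IsThreeTranspositionGroup Db := by
    refine ⟨hset, ?_, ?_⟩
    · rintro q _ ⟨x, hx, rfl⟩
      obtain ⟨g, rfl⟩ := QuotientGroup.mk'_surjective (pCore 2 G) q
      exact ⟨g * x * g⁻¹, class_conj hD g x hx, by simp only [map_mul, map_inv]⟩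
    · rw [hDb, ← MonoidHom.map_closure, hD.2.2]
      exact Subgroup.map_top_of_surjective _ (QuotientGroup.mk'_surjective _)
  have hw : ∀ a ∈ Db, ∀ b ∈ Db, Commute a b → a = b := by
    rintro _ ⟨x, hx, rfl⟩ _ ⟨y, hy, rfl⟩ hc
    by_contra hxy
    have : y ∈ other D x := ⟨hy, commute_of_img hD hx hy hc, hxy⟩
    rwa [hemp hx] at this
  have h3 := widthOne (G ⧸ pCore 2 G) Db hgrp hw
  set O := pCore 3 (G ⧸ pCore 2 G) with hO
  have hcl : ∀ q : G ⧸ pCore 2 G, q ∈ O ∨ q * img d ∈ O := by
    intro q
    have hdd : img d * img d = 1 := by rw [← map_mul, mul_self hD.1 hd, map_one]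
    have hOn : O.Normal := inferInstance
    have hq : q ∈ Subgroup.closure Db := hgrp.2.2 ▸ Subgroup.mem_top q
    induction hq using Subgroup.closure_induction with
    | mem t ht => exact Or.inr (h3 t ht _ ⟨d, hd, rfl⟩)
    | one => exact Or.inl (one_mem _)
    | mul a b _ _ ha hb =>
      rcases ha with ha | ha <;> rcases hb with hb | hb
      · exact Or.inl (mul_mem ha hb)
      · exact Or.inr (by rw [mul_assoc]; exact mul_mem ha hb)
      · refine Or.inr ?_
        have h' := mul_mem ha (hOn.conj_mem _ hb (img d)⁻¹)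
        rwa [show a * img d * ((img d)⁻¹ * b * (img d)⁻¹⁻¹) = a * b * img d by group] at h'
      · refine Or.inl ?_
        have h' := mul_mem ha (hOn.conj_mem _ hb (img d))
        rwa [show a * img d * (img d * (b * img d) * (img d)⁻¹) = a * (img d * img d) * b by group, hdd,
          mul_one] at h'
    | inv a _ ha =>
      rcases ha with ha | ha
      · exact Or.inl (inv_mem ha)
      · refine Or.inr ?_
        have h' := hOn.conj_mem _ (inv_mem ha) (img d)
        rwa [show img d * (a * img d)⁻¹ * (img d)⁻¹ = a⁻¹ * (img d)⁻¹ by group,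
          inv_eq_of_mul_eq_one_right hdd] at h'
  have hdd : img d * img d = 1 := by rw [← map_mul, mul_self hD.1 hd, map_one]
  have hee : img e * img e = 1 := by rw [← map_mul, mul_self hE.1 he, map_one]
  rcases hcl (img e) with hin | hin
  · obtain ⟨k, hk⟩ := CfsgLib.Core.isPGroup_pCore 3 (G ⧸ pCore 2 G) ⟨img e, hin⟩
    have h2 := orderOf_dvd_of_pow_eq_one (congrArg Subtype.val hk : (img e) ^ 3 ^ k = 1)
    rw [hne1 (M.not_mem hE he) (mul_self hE.1 he)] at h2
    exact absurd (Nat.prime_two.dvd_of_dvd_pow h2) (by norm_num)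
  · set r := img e * img d with hr
    obtain ⟨k, hk⟩ := CfsgLib.Core.isPGroup_pCore 3 (G ⧸ pCore 2 G) ⟨r, hin⟩
    have hk' : r ^ 3 ^ k = 1 := congrArg Subtype.val hk
    obtain ⟨j, hj⟩ := (Nat.prime_three.odd_of_ne_two (by norm_num)).pow (n := k)
    have hinvr : img d * r * (img d)⁻¹ = r⁻¹ := by
      rw [hr, mul_inv_rev, inv_eq_of_mul_eq_one_right hdd, inv_eq_of_mul_eq_one_right hee]
      simp only [mul_assoc, hdd, mul_one]
    set s := r ^ (j + 1) with hs
    have hss : s * s = r := by
      rw [hs, ← pow_add, show j + 1 + (j + 1) = 2 * j + 1 + 1 by ring, ← hj, _root_.pow_succ, hk', one_mul]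
    have hsd : img d * s⁻¹ = s * img d := by
      have h' : img d * s * (img d)⁻¹ = s⁻¹ := by
        rw [hs, ← conj_pow, hinvr, inv_pow]
      calc img d * s⁻¹ = img d * (img d * s * (img d)⁻¹) := by rw [h']
        _ = s * img d := by rw [inv_eq_of_mul_eq_one_right hdd, mul_assoc (img d) s, ← mul_assoc, hdd, one_mul]
    obtain ⟨g, hg⟩ := QuotientGroup.mk'_surjective (pCore 2 G) s
    refine h (g * d * g⁻¹) (class_conj hD g d hd) ?_
    rw [map_mul, map_mul, map_inv, hg, mul_assoc, hsd, ← mul_assoc, hss, hr, mul_assoc, hdd, mul_one]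

end CfsgLib.ThreeTrans.UniqueClass
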