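import Cfsg.Agent.Lib.ThreeTrans.UniqueClass.Base

set_option autoImplicit false

/-!
Two classes `D`, `E` of 3-transpositions and a member `e` of `E` whose image modulo the two core is
not the image of a member of `D`: the middles of the lines moved by `e` (owner: helper8).
-/

namespace CfsgLib.ThreeTrans.UniqueClass

open Cfsg

variable {G : Type*} [Group G] {A : Type*} [AddCommGroup A] (M : Act G A) {D E : Set G}
  (hD : IsThreeTranspositionClass D) (hE : IsThreeTranspositionClass E) {e : G} (he : e ∈ E)
  (hne : ∀ f ∈ D, img f ≠ img e)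

include hE he in
theorem e_self : e * e = 1 := mul_self hE.1 he

include hD hE he in
theorem moved_mem {d : G} (hd : d ∈ D) : e * d * e ∈ D := by
  have := class_conj hD e d hd
  rwa [inv_eq hE.1 he] at this

include M hD hE he in
/-- A member and its image under `e` do not commute, or agree modulo the two core. -/
theorem img_eq_of_commute {d : G} (hd : d ∈ D) (hc : Commute d (e * d * e)) : img (e * d * e) = img d := by
  by_contra hn
  have hd' := moved_mem hD hE he hd
  have he' : d * e * d ∈ E := by
    have := class_conj hE d e he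
    rwa [inv_eq hD.1 hd] at this
  have hprod : e * (d * e * d) = (d * (e * d * e))⁻¹ := by
    simp only [mul_inv_rev, inv_eq hD.1 hd, inv_eq hE.1 he, mul_assoc]
  have hc' : Commute e (d * e * d) := by
    rw [commute_iff_sq hE.1 he he', hprod, inv_pow, (commute_iff_sq hD.1 hd hd').1 hc, inv_one]
  have hn' : img e ≠ img (d * e * d) := by
    intro h
    apply hn
    rw [img_eq_iff, inv_eq hE.1 he, hprod, inv_mem_iff] at h
    rw [eq_comm, img_eq_iff, inv_eq hD.1 hd]
    exact h
  obtain ⟨a, ha⟩ := M.exists_T_ne hD hd
  have hbc : Commute d (e * d * e) := hc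
  set w := M.T d a with hw
  have hdw : M.act d w = w := M.T_fix_of_sq (mul_self hD.1 hd) a
  have hew : M.act e w = M.T (e * d * e) (M.act e a) := by
    rw [hw, M.act_T, inv_eq hE.1 he]
  have hde : M.act d (M.act e w) = M.act e w := by
    rw [hew]; exact M.fix_of_commute hD hd hd' hbc _
  have ht : M.act d (M.T e w) = M.T e w := by rw [Act.T, M.act_add, hde, hdw]
  have h1 : M.T e w = 0 := by
    refine M.inter_zero hE he he' hn' (b := M.act d w) ?_
    conv_lhs => rw [← ht, M.act_T, inv_eq hD.1 hd]
  rw [M.T_eq_zero] at h1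
  exact ha (M.inter_zero hD hd hd' (Ne.symm hn) (h1.symm.trans hew))

/-- `n` is the middle of the line through `g` moved by `e`. -/
structure Mid (D : Set G) (e g n : G) : Prop where
  mem : g ∈ D
  nc : ¬ Commute g (e * g * e)
  eq : n = g * (e * g * e) * g

include hD hE he in
theorem Mid.facts {g n : G} (h : Mid D e g n) :
    n ∈ D ∧ Commute e n ∧ ¬ Commute n g ∧ n * g * n = e * g * e ∧ g * n * g = e * g * e ∧
      (e * g * e) * g * (e * g * e) = n ∧ n * (e * g * e) * n = g ∧ ¬ Commute n (e * g * e) := by
  obtain ⟨hg, hnc, hn⟩ := h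
  have hg' := moved_mem hD hE he hg
  have hb := braid hD.1 hg hg' hnc
  have hnD : n ∈ D := hn ▸ class_mem hD hg hg'
  have h1 : (e * g * e) * g * (e * g * e) = n := by rw [hn, hb]
  have hgng : g * n * g = e * g * e := by
    rw [hn]; simp only [mul_assoc, mul_self_assoc hD.1 hg, mul_self hD.1 hg, mul_one]
  have hng : ¬ Commute n g := by
    intro hc
    apply hnc
    have h := (commute_conj_iff (g := g)).2 hc
    rw [inv_eq hD.1 hg, mul_self hD.1 hg, one_mul, hgng] at h
    exact h.symm
  have hngn : n * g * n = e * g * e := by rw [braid hD.1 hnD hg hng, hgng]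
  have hen : Commute e n := by
    have h' : e * n * e⁻¹ = n := by
      conv_rhs => rw [← h1]
      rw [hn, inv_eq hE.1 he]
      simp only [mul_assoc, mul_self_assoc hE.1 he, mul_self hE.1 he, mul_one]
    exact mul_inv_eq_iff_eq_mul.1 h'
  have hngn' : n * (e * g * e) * n = g := by
    rw [← hngn]; simp only [mul_assoc, mul_self_assoc hD.1 hnD, mul_self hD.1 hnD, mul_one]
  refine ⟨hnD, hen, hng, hngn, hgng, h1, hngn', fun hc => hng ?_⟩
  have h := (commute_conj_iff (g := n)).2 hc
  rwa [inv_eq hD.1 hnD, mul_self hD.1 hnD, one_mul, hngn'] at h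

include M in
/-- Fixed displacement spaces travel along elements commuting with `z` modulo the two core. -/
theorem fix_transport {x z f f' : G} (hf : x * f * x⁻¹ = f') (hz : Commute (img x) (img z))
    (h : ∀ a, M.act z (M.T f a) = M.T f a) (a : A) : M.act z (M.T f' a) = M.T f' a := by
  have ha : M.T f' a = M.act x (M.T f (M.act x⁻¹ a)) := by
    rw [M.act_T, hf, ← M.act_mul, mul_inv_cancel, M.act_one]
  rw [ha, ← M.act_mul, M.act_img (show img (z * x) = img (x * z) by rw [map_mul, map_mul, hz.eq]) _,
    M.act_mul, h]

include M hD hE he hne in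
/-- `e` does not fix the displacement space of a middle. -/
theorem exists_moved {g n : G} (h : Mid D e g n) : ∃ a, M.act e (M.T n a) ≠ M.T n a := by
  by_contra hall
  simp only [not_exists, not_not] at hall
  obtain ⟨hnD, hen, hng, hngn, hgng, h1, hngn', hng'⟩ := Mid.facts hD hE he h
  obtain ⟨hg, hnc, -⟩ := h
  have hg' := moved_mem hD hE he hg
  set g' := e * g * e with hg'def
  have hee := e_self hE he
  have hnn := mul_self hD.1 hnD
  set z := n * e with hz
  have hzn : Commute z n := (Commute.refl n).mul_left hen
  have hege : e * g' * e = g := by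
    rw [hg'def]; simp only [mul_assoc, mul_self_assoc hE.1 he, hee, mul_one]
  have hzg : Commute z g := by
    have : z * g * z⁻¹ = g := by
      calc z * g * z⁻¹ = n * (e * g * e) * n := by
            rw [hz, mul_inv_rev, inv_eq hE.1 he, inv_eq hD.1 hnD]; simp only [mul_assoc]
        _ = g := hngn'
    exact mul_inv_eq_iff_eq_mul.1 this
  have hzg' : Commute z g' := by rw [← hngn]; exact (hzn.mul_right hzg).mul_right hzn
  have zn : ∀ a, M.act z (M.T n a) = M.T n a := fun a => M.fix_mul (M.T_fix_of_sq hnn a) (hall a)
  have zg : ∀ a, M.act z (M.T g a) = M.T g a :=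
    fix_transport M (pair_conj hD.1 hnD hg hng) ((hzn.mul_right hzg).symm.map img) zn
  have zg' : ∀ a, M.act z (M.T g' a) = M.T g' a :=
    fix_transport M (pair_conj hD.1 hnD hg' hng') ((hzn.mul_right hzg').symm.map img) zn
  have hr3 : (g' * g) ^ 3 = 1 := pow_three hD.1 hg' hg fun hc => hnc hc.symm
  -- the fixed points of `g' g`
  have zr : ∀ a, M.act (g' * g) a = a → M.act z a = a := by
    intro a ha
    obtain ⟨ha', hag⟩ := M.fix_of_fix_mul hD hg' hg (fun hc => hnc hc.symm) ha
    have hna : M.act n a = a := by rw [← h1]; exact M.fix_mul (M.fix_mul ha' hag) ha'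
    have he' : g * e * g ∈ E := by
      have := class_conj hE g e he
      rwa [inv_eq hD.1 hg] at this
    have hee' : e * (g * e * g) = g' * g := by rw [hg'def]; simp only [mul_assoc]
    have hnc' : ¬ Commute e (g * e * g) := by
      rw [commute_iff_sq hE.1 he he', hee']
      intro h2
      have : g' * g = 1 := by
        have h3 := hr3
        rwa [_root_.pow_succ, h2, one_mul] at h3
      exact hnc (by rw [eq_inv_of_mul_eq_one_left this, inv_eq hD.1 hg])
    exact M.fix_mul hna (M.fix_of_fix_mul hE he he' hnc' (by rw [hee']; exact ha)).1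
  have key : ∀ a, M.act z a = a := by
    intro a
    have e1 : M.act g' (M.T g a) = M.T n (M.act g' a) := by rw [M.act_T, inv_eq hD.1 hg', h1]
    have e2 : M.act g (M.T g' a) = M.T n (M.act g a) := by
      rw [M.act_T, inv_eq hD.1 hg, show g * g' * g = n by rw [← h1, braid hD.1 hg hg' hnc]]
    have hfix : M.act z (M.act (g' * g) a + a) = M.act (g' * g) a + a ∧
        M.act z (M.act (g * g') a + a) = M.act (g * g') a + a := by
      constructor
      · have h' : M.act (g' * g) a + a = M.act g' (M.T g a) + M.T g' a := by
          simp only [Act.T, M.act_add, M.act_mul]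
          rw [add_assoc, ← add_assoc (M.act g' a), M.self, zero_add]
        rw [h', M.act_add, e1, zn, zg']
      · have h' : M.act (g * g') a + a = M.act g (M.T g' a) + M.T g a := by
          simp only [Act.T, M.act_add, M.act_mul]
          rw [add_assoc, ← add_assoc (M.act g a), M.self, zero_add]
        rw [h', M.act_add, e2, zn, zg]
    set r := g' * g with hr
    have hrinv : g * g' = r * r := by
      rw [eq_inv_of_mul_eq_one_left (show r * r * r = 1 by rw [← hr3, _root_.pow_succ, pow_two]), hr,
        mul_inv_rev, inv_eq hD.1 hg, inv_eq hD.1 hg']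
    rw [hrinv] at hfix
    set c := a + M.act r a + M.act (r * r) a with hc
    have hcfix : M.act r c = c := by
      have hrrr : r * (r * r) = 1 := by rw [← hr3, _root_.pow_succ', pow_two]
      rw [hc, M.act_add, M.act_add, ← M.act_mul, ← M.act_mul, hrrr, M.act_one]
      abel
    have hdec : a = c + (M.act r a + a) + (M.act (r * r) a + a) := by
      rw [hc, show a + M.act r a + M.act (r * r) a + (M.act r a + a) + (M.act (r * r) a + a) =
        a + ((M.act r a + M.act r a) + (M.act (r * r) a + M.act (r * r) a) + (a + a)) by abel,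
        M.self, M.self, M.self]
      simp [M.self]
    conv_lhs => rw [hdec]
    rw [M.act_add, M.act_add, zr c hcfix, hfix.1, hfix.2, ← hdec]
  exact hne n hnD (img_eq_iff.2 (by rw [inv_eq hD.1 hnD]; exact M.mem_of_fix key))

include M hD hE he in
/-- `e` fixes the displacement space of a member commuting with a line and with its middle. -/
theorem fix_of_commute_line {m g n : G} (h : Mid D e g n) (hm : m ∈ D) (hmn : Commute m n) (hmg : Commute m g)
    (a : A) : M.act e (M.T m a) = M.T m a := by
  obtain ⟨hnD, hen, hng, hngn, hgng, h1, hngn', hng'⟩ := Mid.facts hD hE he h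
  obtain ⟨hg, hnc, -⟩ := h
  have hg' := moved_mem hD hE he hg
  have hmg' : Commute m (e * g * e) := by rw [← hngn]; exact (hmn.mul_right hmg).mul_right hmn
  have f1 := M.fix_of_commute hD hg hm hmg.symm a
  have f2 := M.fix_of_commute hD hg' hm hmg'.symm a
  have he' : g * e * g ∈ E := by
    have := class_conj hE g e he
    rwa [inv_eq hD.1 hg] at this
  have hee' : e * (g * e * g) = e * g * e * g := by simp only [mul_assoc]
  have hnc' : ¬ Commute e (g * e * g) := by
    rw [commute_iff_sq hE.1 he he', hee']
    intro h2
    have : e * g * e * g = 1 := by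
      have h3 := pow_three hD.1 hg' hg fun hc => hnc hc.symm
      rwa [_root_.pow_succ, h2, one_mul] at h3
    exact hnc (by rw [eq_inv_of_mul_eq_one_left this, inv_eq hD.1 hg])
  exact (M.fix_of_fix_mul hE he he' hnc' (by rw [hee']; exact M.fix_mul f2 f1)).1

include M hD hE he hne in
/-- A middle commutes with no moved member. -/
theorem commute_fixed {g n k : G} (h : Mid D e g n) (hk : k ∈ D) (hnk : Commute n k) :
    Commute k (e * k * e) := by
  by_contra hkc
  have hk2 : Mid D e k (k * (e * k * e) * k) := ⟨hk, hkc, rfl⟩
  obtain ⟨hnD, hen, -⟩ := Mid.facts hD hE he h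
  have hk' : Commute n (e * k * e) := (hen.symm.mul_right hnk).mul_right hen.symm
  obtain ⟨a, ha⟩ := exists_moved M hD hE he hne h
  exact ha (fix_of_commute_line M hD hE he hk2 hnD ((hnk.mul_right hk').mul_right hnk) hnk a)

include M hD hE he hne in
/-- The main step: members commuting with a middle commute with its line. -/
theorem commute_line {g n m : G} (h : Mid D e g n) (hm : m ∈ D) (hnm : Commute n m) (hne' : img n ≠ img m) :
    Commute g m := by
  by_contra hgm
  have h0 := h
  obtain ⟨hnD, hen, hng, hngn, hgng, h1, hngn', hng'⟩ := Mid.facts hD hE he h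
  obtain ⟨hg, hnc, -⟩ := h
  have hg' := moved_mem hD hE he hg
  set g' := e * g * e with hg'def
  have hem : img (e * m * e) = img m :=
    img_eq_of_commute M hD hE he hm (commute_fixed M hD hE he hne h0 hm hnm)
  have hmg' : ¬ Commute m g' := by
    intro hc
    apply hgm
    rw [← hngn']
    exact ((hnm.symm.mul_right hc).mul_right hnm.symm).symm
  have hnn := mul_self hD.1 hnD
  have hee := e_self hE he
  obtain ⟨z, hz⟩ : ∃ z, z = n * e := ⟨_, rfl⟩
  have hzn : Commute z n := hz ▸ (Commute.refl n).mul_left hen
  have hzg : Commute z g := by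
    have : z * g * z⁻¹ = g := by
      calc z * g * z⁻¹ = n * (e * g * e) * n := by
            rw [hz, mul_inv_rev, inv_eq hE.1 he, inv_eq hD.1 hnD]; simp only [mul_assoc]
        _ = g := hngn'
    exact mul_inv_eq_iff_eq_mul.1 this
  have hzg' : Commute z g' := by rw [← hngn]; exact (hzn.mul_right hzg).mul_right hzn
  have hzm : Commute (img z) (img m) := by
    have hem' : Commute (img e) (img m) := by
      have h' : img e * img m * (img e)⁻¹ = img m := by rw [← map_inv, inv_eq hE.1 he, ← map_mul, ← map_mul, hem]
      exact mul_inv_eq_iff_eq_mul.1 h'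
    rw [hz, map_mul]
    exact (hnm.map img).mul_left hem'
  have hze : n * z = e := by rw [hz, mul_self_assoc hD.1 hnD]
  have hzz : z * z = 1 := by
    rw [hz]
    calc n * e * (n * e) = n * (e * n) * e := by simp only [mul_assoc]
      _ = n * (n * e) * e := by rw [hen.eq]
      _ = 1 := by rw [mul_self_assoc hD.1 hnD, hee]
  obtain ⟨w, hw⟩ : ∃ w, w = g' * m * g := ⟨_, rfl⟩
  have hwn : w * n * w⁻¹ = m := by
    rw [hw, mul_inv_rev, mul_inv_rev, inv_eq hD.1 hg, inv_eq hD.1 hm, inv_eq hD.1 hg',
      show g' * m * g * n * (g * (m * g')) = g' * (m * (g * n * g) * m) * g' by simp only [mul_assoc],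
      hgng, braid hD.1 hm hg' hmg']
    simp only [mul_assoc, mul_self_assoc hD.1 hg', mul_self hD.1 hg', mul_one]
  have hwz : Commute (img w) (img z) := by
    rw [hw, map_mul, map_mul]
    exact ((hzg'.symm.map img).mul_left hzm.symm).mul_left (hzg.symm.map img)
  set e2 := w * e * w⁻¹ with he2def
  have he2 : e2 ∈ E := class_conj hE w e he
  have hi : img e2 = img m * img z := by
    calc img e2 = img w * img (n * z) * (img w)⁻¹ := by rw [hze, he2def, map_mul, map_mul, map_inv]
      _ = img w * img n * (img w)⁻¹ * (img w * img z * (img w)⁻¹) := by rw [map_mul img n z]; group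
      _ = img m * img z := by rw [hwz.eq, mul_inv_cancel_right, ← map_inv, ← map_mul, ← map_mul, hwn]
  have hie : img e = img n * img z := by rw [← map_mul, hze]
  have hne2 : img e ≠ img e2 := by
    rw [hi, hie]
    exact fun h' => hne' (mul_right_cancel h')
  have hc2 : Commute e e2 := by
    apply commute_of_img hE he he2
    rw [hi, hie]
    exact ((hnm.map img).mul_right (hzn.map img).symm).mul_left (hzm.mul_right (Commute.refl _))
  -- `z` fixes the displacement space of `g`
  have zg : ∀ a, M.act z (M.T g a) = M.T g a := by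
    intro a
    set u := M.T g a with hu
    set u' := M.act z u with hu'
    have hu'g : u' = M.T g (M.act z a) := by
      rw [hu', hu, M.act_T, hzg.eq, mul_inv_cancel_right]
    have hzu' : M.act z u' = u := by rw [hu', ← M.act_mul, hzz, M.act_one]
    have hfix := M.fix_of_commute hE he he2 hc2 u
    have hact : ∀ b, M.act e2 b = M.act m (M.act z b) := fun b => by
      rw [M.act_img (show img e2 = img (m * z) by rw [hi, map_mul]) b, M.act_mul]
    have he' : ∀ b, M.act e b = M.act n (M.act z b) := fun b => by rw [← M.act_mul, hze]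
    have hzmu : M.act z (M.act m u') = M.act m u := by
      rw [← M.act_mul, M.act_img (show img (z * m) = img (m * z) by rw [map_mul, map_mul, hzm.eq]),
        M.act_mul, hzu']
    have eq1 : M.act n (M.act m u) + M.act n u' = M.act m u' + u := by
      have h' : M.act e (M.act m u' + u) = M.act m u' + u := by
        rw [Act.T, hact] at hfix; exact hfix
      rw [M.act_add, he', he', hzmu] at h'
      exact h'
    have hnTm : M.act n (M.T m u) = M.T m u := M.fix_of_commute hD hnD hm hnm u
    rw [M.act_eq_add m u, M.act_eq_add m u', M.act_add, hnTm, M.act_eq_add n u, M.act_eq_add n u'] at eq1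
    have eq2 : M.T n (u + u') = M.T m (u + u') := by
      rw [← M.eq_iff, M.T_add, M.T_add]
      have h' := M.eq_iff.2 eq1
      calc M.T n u + M.T n u' + (M.T m u + M.T m u')
          = u + M.T n u + M.T m u + (u' + M.T n u') + (u' + M.T m u' + u) + ((u + u) + (u' + u')) := by
            have e3 : u + M.T n u + M.T m u + (u' + M.T n u') + (u' + M.T m u' + u) + ((u + u) + (u' + u')) =
              M.T n u + M.T n u' + (M.T m u + M.T m u') + ((u + u) + (u + u) + ((u' + u') + (u' + u'))) := by abel
            rw [e3]; simp only [M.self, add_zero]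
        _ = 0 := by simp only [M.self, add_zero]; exact h'
    have hT : M.T n (u + u') = 0 := M.inter_zero hD hnD hm hne' eq2
    rw [hu'g, hu, ← M.T_add] at hT
    have h0' := M.eq_zero_of_fix hD hnD hg hng (M.T_eq_zero.1 hT)
    rw [M.T_add, ← hu'g, M.eq_iff] at h0'
    rw [hu, h0']
  have zn : ∀ a, M.act z (M.T n a) = M.T n a :=
    fix_transport M (pair_conj hD.1 hg hnD fun hc => hng hc.symm) ((hzg.mul_right hzn).symm.map img) zg
  obtain ⟨a, ha⟩ := exists_moved M hD hE he hne h0
  refine ha ?_
  rw [← hze, M.act_mul, zn, M.T_fix_of_sq hnn]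

end CfsgLib.ThreeTrans.UniqueClass
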